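import Cfsg.Prelude.Def_LieRecognition
import Cfsg.Agent.FixBN.Split
import Cfsg.Agent.FastGrp
import Cfsg.Agent.Prune
set_option linter.all false
prune_inst 0x7f00000000000000000000000000000000000000000000000000000000000000000000000000000000000000000000000000000000000000000000000000000000000000000000000000000000000000003fffffffffffffffffffffffffffbeffbdffffffff
open scoped Cfsg.Agent.FastGrp

/-!
# Elements of order `2p` in groups of Lie type of odd characteristic `p` and rank at least two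

* `node_ne_bot` : in a split (B,N)-pair of rank at least two the subgroup `V` at a node is nontrivial;
* `exists_order` : `p` odd, `V ≠ 1`: there is an element of order `2p`;
* `exists_order_or_rank` : a group with a split (B,N)-pair of odd characteristic `p` has an element of order `2p`
  or the rank is one.
-/

set_option autoImplicit false

namespace Cfsg.Agent.H690.LieMix

open Subgroup Cfsg Cfsg.Agent.Schreier.BNSch Cfsg.Agent.FixBN

variable {K : Type*} [Group K] {P : Cfsg.BNPair K} {p : ℕ} {U : Subgroup K}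

theorem not_mem_parabolic {s t : K} (hs : s ∈ P.S) (ht : t ∈ P.S) (hst : s ≠ t) : s ∉ P.parabolic {t} := by
  intro h
  have h1 : P.parabolic {s} ≤ P.parabolic {t} := by
    refine sup_le (B_le_parabolic P _) ((Subgroup.closure_le _).2 ?_)
    rintro x rfl
    exact h
  rw [parabolic_le_iff P (Set.singleton_subset_iff.2 hs) (Set.singleton_subset_iff.2 ht)] at h1
  exact hst (by simpa using h1)

/-- In rank at least two the subgroup at a node is nontrivial. -/
theorem node_ne_bot (h : Split P p U) {s t : K} (hs : s ∈ P.S) (ht : t ∈ P.S) (hst : s ≠ t) {V : Subgroup K}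
    (hV : Node P U s V) : V ≠ ⊥ := by
  intro hV1
  obtain ⟨V', hV'⟩ := h.node t ht
  obtain ⟨u, hu, huV⟩ := hV'.ne
  have hsP := not_mem_parabolic hs ht hst
  have hB : P.B ≤ P.parabolic {t} := B_le_parabolic P _
  have htP : t ∈ P.parabolic {t} := mem_parabolic_self P t
  rcases P.mul_mem_union s hs t (P.subset ht) u (h.le hu) with h1 | h1
  · rw [DoubleCoset.mem_doubleCoset] at h1
    obtain ⟨b, hb, b', hb', h1⟩ := h1
    obtain ⟨u3, hu3, x, hx, rfl⟩ := h.cover' hb
    have h2 : (s * t)⁻¹ * x * (s * t)⁻¹⁻¹ ∈ P.B :=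
      P.conj_mem _ (inv_mem (mul_mem (P.subset hs) (P.subset ht))) x hx
    set b'' := (s * t)⁻¹ * x * (s * t)⁻¹⁻¹ * b' with hb''
    have h3 : s * u * t = u3 * (s * t) * b'' := by
      rw [h1, hb'']; group
    have hb''B : b'' ∈ P.B := mul_mem h2 hb'
    have h4 : s⁻¹ * u3⁻¹ * s = t * b'' * t⁻¹ * u⁻¹ := by
      have h5 : u3⁻¹ * (s * u * t) = s * t * b'' := by rw [h3]; group
      have h6 : s⁻¹ * u3⁻¹ * s = s⁻¹ * (u3⁻¹ * (s * u * t)) * t⁻¹ * u⁻¹ := by group
      rw [h6, h5]; group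
    have h5 : s⁻¹ * u3⁻¹ * s ∈ P.parabolic {t} := by
      rw [h4]
      exact mul_mem (mul_mem (mul_mem htP (hB hb''B)) (inv_mem htP)) (inv_mem (hB (h.le hu)))
    have h6 : s⁻¹ * u3⁻¹ * s ∈ P.parabolic {s} :=
      mul_mem (mul_mem (inv_mem (mem_parabolic_self P s)) (inv_mem (B_le_parabolic P _ (h.le hu3))))
        (mem_parabolic_self P s)
    have h7 : s⁻¹ * u3⁻¹ * s ∈ P.B := by
      rcases mem_parabolic_singleton P hs h6 with h7 | ⟨b1, hb1, b2, hb2, h7⟩
      · exact h7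
      · exfalso
        apply hsP
        have h8 : s = b1⁻¹ * (s⁻¹ * u3⁻¹ * s) * b2⁻¹ := by rw [h7]; group
        rw [h8]
        exact mul_mem (mul_mem (inv_mem (hB hb1)) h5) (inv_mem (hB hb2))
    have h8 : u3⁻¹ ∈ V := hV.stab _ (inv_mem hu3) h7
    rw [hV1, Subgroup.mem_bot, inv_eq_one] at h8
    subst h8
    apply huV
    apply hV'.stab u hu
    have h9 : t⁻¹ * u * t = b'' := by
      have h10 : t⁻¹ * u * t = t⁻¹ * s⁻¹ * (s * u * t) := by group
      rw [h10, h3]; group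
    rw [h9]
    exact hb''B
  · rw [DoubleCoset.mem_doubleCoset] at h1
    obtain ⟨b, hb, b', hb', h1⟩ := h1
    apply hsP
    have h2 : s = b * t * b' * t⁻¹ * u⁻¹ := by rw [← h1]; group
    rw [h2]
    exact mul_mem (mul_mem (mul_mem (mul_mem (hB hb) htP) (hB hb')) (inv_mem htP)) (inv_mem (hB (h.le hu)))

theorem mem_of_odd_sq {B : Subgroup K} {n : K} (hodd : Odd (orderOf n)) (h : n * n ∈ B) : n ∈ B := by
  obtain ⟨k, hk⟩ := hodd
  have h1 : n = (n * n) ^ (k + 1) := by
    have h2 : n ^ (2 * k + 1) = 1 := by rw [← hk]; exact pow_orderOf_eq_one n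
    rw [← pow_two, ← pow_mul]
    have h3 : 2 * (k + 1) = (2 * k + 1) + 1 := by ring
    rw [h3, pow_add, h2, one_mul, pow_one]
  rw [h1]
  exact pow_mem h _

/-- A square root of an element of odd order among its powers. -/
theorem exists_sqrt {c : K} (hodd : Odd (orderOf c)) : ∃ m : ℕ, c ^ m * c ^ m = c := by
  obtain ⟨k, hk⟩ := hodd
  refine ⟨k + 1, ?_⟩
  have h2 : c ^ (2 * k + 1) = 1 := by rw [← hk]; exact pow_orderOf_eq_one c
  rw [← pow_add]
  have h3 : k + 1 + (k + 1) = (2 * k + 1) + 1 := by ring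
  rw [h3, pow_add, h2, one_mul, pow_one]

/-- **Elements of order `2p`** from a node with `V ≠ 1`. -/
theorem exists_order [Finite K] [hp : Fact p.Prime] (hp2 : p ≠ 2) (h : Split P p U) {s : K} (hs : s ∈ P.S)
    {V : Subgroup K} (hV : Node P U s V) (hV1 : V ≠ ⊥) : ∃ g : K, orderOf g = 2 * p := by
  by_contra hno
  -- involutions have no `p`-singular elements in their centralizers
  have hcent : ∀ t x : K, orderOf t = 2 → Commute t x → ¬ p ∣ orderOf x := by
    intro t x ht hc hd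
    apply hno
    obtain ⟨k, hk⟩ := hd
    have hx0 : 0 < orderOf x := orderOf_pos x
    have hk0 : k ≠ 0 := by rintro rfl; rw [mul_zero] at hk; omega
    have h1 : orderOf (x ^ k) = p := by
      rw [orderOf_pow_of_dvd hk0 ⟨p, by rw [hk]; ring⟩, hk]
      exact Nat.mul_div_cancel _ (Nat.pos_of_ne_zero hk0)
    refine ⟨t * x ^ k, ?_⟩
    rw [(hc.pow_right k).orderOf_mul_eq_mul_orderOf_of_coprime, ht, h1]
    rw [ht, h1]
    exact (Nat.coprime_primes Nat.prime_two hp.1).2 (Ne.symm hp2)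
  set Q := P.parabolic {s} with hQ
  have hBQ : P.B ≤ Q := B_le_parabolic P _
  have hsQ : s ∈ Q := mem_parabolic_self P s
  have hsB : s ∉ P.B := not_mem_B P hs
  have hVn : ∀ g ∈ Q, ∀ v ∈ V, g * v * g⁻¹ ∈ V := by
    intro g hg v hv
    have := hV.conj_mem (inv_mem hg) hv
    simpa using this
  -- the nontrivial element of order p
  obtain ⟨v0, hv0, hv01⟩ : ∃ v ∈ V, v ≠ 1 := by
    by_contra hcon
    push Not at hcon
    exact hV1 ((Subgroup.eq_bot_iff_forall _).2 hcon)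
  have hpv : ∀ v ∈ V, v ≠ 1 → p ∣ orderOf v := by
    intro v hv hv1
    obtain ⟨k, hk⟩ := h.isP ⟨v, hV.le hv⟩
    have h1 : v ^ p ^ k = 1 := by simpa using congrArg Subtype.val hk
    obtain ⟨j, hj, hj2⟩ := (Nat.dvd_prime_pow hp.1).1 (orderOf_dvd_of_pow_eq_one h1)
    rw [hj2]
    apply dvd_pow_self
    rintro rfl
    rw [pow_zero, orderOf_eq_one_iff] at hj2
    exact hv1 hj2
  -- an involution in `Q`
  obtain ⟨t, htQ, ht⟩ : ∃ t ∈ Q, orderOf t = 2 := by
    have h1 : ¬ Odd (orderOf s) := fun hodd => hsB (mem_of_odd_sq hodd (P.sq_mem s hs))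
    rw [Nat.not_odd_iff_even, even_iff_two_dvd] at h1
    obtain ⟨k, hk⟩ := h1
    have hx0 : 0 < orderOf s := orderOf_pos s
    have hk0 : k ≠ 0 := by rintro rfl; rw [mul_zero] at hk; omega
    refine ⟨s ^ k, pow_mem hsQ _, ?_⟩
    rw [orderOf_pow_of_dvd hk0 ⟨2, by rw [hk]; ring⟩, hk]
    exact Nat.mul_div_cancel _ (Nat.pos_of_ne_zero hk0)
  have htt : t * t = 1 := by
    have := pow_orderOf_eq_one t
    rwa [ht, pow_two] at this
  have htinv : t⁻¹ = t := inv_eq_of_mul_eq_one_left htt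
  -- `t` inverts `V`
  have hinv : ∀ v ∈ V, t * v * t⁻¹ = v⁻¹ := by
    let φ : V →* V :=
      { toFun := fun v => ⟨t * v * t⁻¹, hVn t htQ v v.2⟩
        map_one' := by ext; simp
        map_mul' := by intro a b; ext; simp [mul_assoc] }
    have hφ : MonoidHom.FixedPointFree φ := by
      intro v hv
      have h1 : t * (v : K) * t⁻¹ = v := congrArg Subtype.val hv
      by_contra hv1
      have h2 : Commute t (v : K) := by
        have := congrArg (· * t) h1
        show t * (v : K) = v * t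
        simpa [mul_assoc] using this
      exact hcent t v ht h2 (hpv v v.2 fun h => hv1 (Subtype.ext h))
    have hφ2 : Function.Involutive φ := by
      intro v
      ext
      show t * (t * (v : K) * t⁻¹) * t⁻¹ = v
      rw [htinv]
      calc t * (t * (v : K) * t) * t = (t * t) * v * (t * t) := by group
        _ = v := by rw [htt]; group
    have hφ3 := MonoidHom.FixedPointFree.coe_eq_inv_of_involutive hφ hφ2
    intro v hv
    have h1 : φ ⟨v, hv⟩ = (⟨v, hv⟩ : V)⁻¹ := by rw [hφ3]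
    exact congrArg Subtype.val h1
  -- the centralizer of `V` in `Q`
  set C : Subgroup K := Subgroup.centralizer (V : Set K) ⊓ Q with hC
  have hCn : ∀ g ∈ Q, ∀ c ∈ C, g * c * g⁻¹ ∈ C := by
    intro g hg c hc
    refine Subgroup.mem_inf.2 ⟨?_, mul_mem (mul_mem hg hc.2) (inv_mem hg)⟩
    rw [Subgroup.mem_centralizer_iff]
    intro v hv
    have h1 : g⁻¹ * v * g ∈ V := by simpa using hVn g⁻¹ (inv_mem hg) v hv
    have h2 := Subgroup.mem_centralizer_iff.1 hc.1 _ h1
    have h3 : v * (g * c * g⁻¹) = g * ((g⁻¹ * v * g) * c) * g⁻¹ := by group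
    rw [h3, h2]; group
  have hCodd : ∀ c ∈ C, Odd (orderOf c) := by
    intro c hc
    rw [← Nat.not_even_iff_odd, even_iff_two_dvd]
    rintro ⟨k, hk⟩
    have hx0 : 0 < orderOf c := orderOf_pos c
    have hk0 : k ≠ 0 := by rintro rfl; rw [mul_zero] at hk; omega
    have h1 : orderOf (c ^ k) = 2 := by
      rw [orderOf_pow_of_dvd hk0 ⟨2, by rw [hk]; ring⟩, hk]
      exact Nat.mul_div_cancel _ (Nat.pos_of_ne_zero hk0)
    have h2 : Commute (c ^ k) v0 := by
      have := Subgroup.mem_centralizer_iff.1 hc.1 v0 hv0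
      exact (Commute.pow_left (show Commute c v0 from this.symm) k)
    exact hcent _ _ h1 h2 (hpv v0 hv0 hv01)
  have hcomm : ∀ y ∈ Q, t * y * t⁻¹ * y⁻¹ ∈ C := by
    intro y hy
    refine Subgroup.mem_inf.2 ⟨?_, mul_mem (mul_mem (mul_mem htQ hy) (inv_mem htQ)) (inv_mem hy)⟩
    rw [Subgroup.mem_centralizer_iff]
    intro v hv
    have h1 : y⁻¹ * v * y ∈ V := by simpa using hVn y⁻¹ (inv_mem hy) v hv
    have h2 := hinv _ h1
    have h3 := hinv _ (inv_mem hv)
    -- t v⁻¹ t⁻¹ = v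
    rw [inv_inv] at h3
    have h4 : t⁻¹ * (y⁻¹ * v * y) * t = (y⁻¹ * v * y)⁻¹ := by
      rw [htinv] at h2 ⊢
      exact h2
    have h5 : v * (t * y * t⁻¹ * y⁻¹) = (t * v⁻¹ * t⁻¹) * (t * y * t⁻¹ * y⁻¹) := by rw [h3]
    rw [h5]
    have h6 : (t * v⁻¹ * t⁻¹) * (t * y * t⁻¹ * y⁻¹) = t * y * (y⁻¹ * v * y)⁻¹ * t⁻¹ * y⁻¹ := by group
    rw [h6, ← h4]
    group
  -- `p`-elements of `Q` lie in `C`
  have hpC : ∀ y ∈ Q, ∀ k : ℕ, y ^ p ^ k = 1 → y ∈ C := by
    intro y hy k hk
    set c := y * t * y⁻¹ * t⁻¹ with hc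
    have hcC : c ∈ C := by
      have h1 := inv_mem (hcomm y hy)
      have h2 : (t * y * t⁻¹ * y⁻¹)⁻¹ = c := by rw [hc]; group
      rwa [h2] at h1
    have htc : t * c * t⁻¹ = c⁻¹ := by
      rw [hc, htinv]
      calc t * (y * t * y⁻¹ * t) * t = t * y * t * y⁻¹ * (t * t) := by group
        _ = (y * t⁻¹ * y⁻¹ * t⁻¹)⁻¹ := by rw [htt, mul_one]; group
        _ = (y * t * y⁻¹ * t)⁻¹ := by rw [htinv]
    obtain ⟨m, hm⟩ := exists_sqrt (hCodd c hcC)
    set e := c ^ m with he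
    have heC : e ∈ C := pow_mem hcC _
    have hte : t * e * t⁻¹ = e⁻¹ := by
      rw [he, ← conj_pow, htc, inv_pow]
    have h1 : e * t * e⁻¹ = y * t * y⁻¹ := by
      have h2 : t * e⁻¹ * t⁻¹ = e := by
        have := congrArg (·⁻¹) hte
        simpa [mul_assoc] using this
      calc e * t * e⁻¹ = e * (t * e⁻¹ * t⁻¹) * t := by group
        _ = c * t := by rw [h2, hm]
        _ = y * t * y⁻¹ := by rw [hc]; group
    have h2 : Commute t (e⁻¹ * y) := by
      show t * (e⁻¹ * y) = e⁻¹ * y * t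
      have h3 : e⁻¹ * y * t = e⁻¹ * (y * t * y⁻¹) * y := by group
      rw [h3, ← h1]; group
    have h3 := hcent t _ ht h2
    -- in the quotient
    have hCQ : (C.subgroupOf Q).Normal := by
      constructor
      intro c hc g
      rw [Subgroup.mem_subgroupOf] at hc ⊢
      exact hCn g g.2 _ hc
    have heQ : e ∈ Q := heC.2
    have h4 : (QuotientGroup.mk (⟨e⁻¹ * y, mul_mem (inv_mem heQ) hy⟩ : Q) : Q ⧸ C.subgroupOf Q) =
        QuotientGroup.mk ⟨y, hy⟩ := by
      rw [QuotientGroup.eq, Subgroup.mem_subgroupOf]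
      show (e⁻¹ * y)⁻¹ * y ∈ C
      have h5 : (e⁻¹ * y)⁻¹ * y = y⁻¹ * e * y := by group
      rw [h5]
      simpa using hCn y⁻¹ (inv_mem hy) e heC
    have h5 : orderOf (QuotientGroup.mk (⟨y, hy⟩ : Q) : Q ⧸ C.subgroupOf Q) = 1 := by
      refine Nat.eq_one_of_dvd_coprimes (a := p ^ k) (b := orderOf (e⁻¹ * y))
        (Nat.Coprime.pow_left _ ((Nat.Prime.coprime_iff_not_dvd hp.1).2 h3)) ?_ ?_
      · apply orderOf_dvd_of_pow_eq_one
        rw [← QuotientGroup.mk_pow]
        have h6 : (⟨y, hy⟩ : Q) ^ p ^ k = 1 := Subtype.ext hk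
        rw [h6]; rfl
      · rw [← h4]
        apply orderOf_dvd_of_pow_eq_one
        rw [← QuotientGroup.mk_pow]
        have h6 : (⟨e⁻¹ * y, mul_mem (inv_mem heQ) hy⟩ : Q) ^ orderOf (e⁻¹ * y) = 1 :=
          Subtype.ext (pow_orderOf_eq_one _)
        rw [h6]; rfl
    rw [orderOf_eq_one_iff, QuotientGroup.eq_one_iff, Subgroup.mem_subgroupOf] at h5
    exact h5
  have hUC : U ≤ C := by
    intro u hu
    obtain ⟨k, hk⟩ := h.isP ⟨u, hu⟩
    exact hpC u (hBQ (h.le hu)) k (by simpa using congrArg Subtype.val hk)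
  -- the contradiction
  obtain ⟨u, hu, huV⟩ := hV.ne
  have h1 : s⁻¹ * u * s ∉ P.B := fun h1 => huV (hV.stab u hu h1)
  have h2 : s⁻¹ * u * s ∈ C := by simpa using hCn s⁻¹ (inv_mem hsQ) u (hUC hu)
  rcases mem_parabolic_singleton P hs h2.2 with h3 | ⟨b1, hb1, b2, hb2, h3⟩
  · exact h1 h3
  · obtain ⟨u1, hu1, x1, hx1, rfl⟩ := h.cover' hb1
    obtain ⟨u2, hu2, x2, hx2, rfl⟩ := h.cover' hb2
    have hx2Q : x2 ∈ Q := hBQ hx2.1
    have h4 : x2 * (u1⁻¹ * (s⁻¹ * u * s)) * x2⁻¹ ∈ C := hCn x2 hx2Q _ (mul_mem (inv_mem (hUC hu1)) h2)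
    have h5 : x2 * (u1⁻¹ * (s⁻¹ * u * s)) * x2⁻¹ = x2 * x1 * s * u2 := by
      rw [h3]; group
    rw [h5] at h4
    have h6 : x2 * x1 * s ∈ C := by
      have := mul_mem h4 (inv_mem (hUC hu2))
      simpa [mul_assoc] using this
    have hxx : x2 * x1 ∈ P.B ⊓ P.N := mul_mem hx2 hx1
    have h7 : (x2 * x1 * s) * (x2 * x1 * s) ∈ P.B := by
      have h8 : (x2 * x1 * s) * (x2 * x1 * s) = (x2 * x1) * (s * (x2 * x1) * s⁻¹) * (s * s) := by group
      rw [h8]
      exact mul_mem (mul_mem hxx.1 (P.conj_mem s (P.subset hs) _ hxx)) (P.sq_mem s hs)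
    have h8 := mem_of_odd_sq (hCodd _ h6) h7
    apply hsB
    have h9 : s = (x2 * x1)⁻¹ * (x2 * x1 * s) := by group
    rw [h9]
    exact mul_mem (inv_mem hxx.1) h8

/-- An element of order `2p`, or the rank is one. -/
theorem exists_order_or_rank [Finite K] [hp : Fact p.Prime] (hp2 : p ≠ 2) (h : HasSplit p K) :
    (∃ g : K, orderOf g = 2 * p) ∨ ∃ P : Cfsg.BNPair K, P.rank = 1 ∧ P.IsSplit := by
  obtain ⟨P, U, ⟨s, hs⟩, h⟩ := h
  by_cases h1 : ∃ t ∈ P.S, s ≠ t
  · obtain ⟨t, ht, hst⟩ := h1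
    obtain ⟨V, hV⟩ := h.node s hs
    exact Or.inl (exists_order hp2 h hs hV (node_ne_bot h hs ht hst hV))
  · push Not at h1
    refine Or.inr ⟨P, ?_, U, h.le, h.norm, ?_, ?_⟩
    · have h2 : P.S = {s} := by
        ext t
        constructor
        · intro ht
          exact (h1 t ht).symm
        · rintro rfl
          exact hs
      unfold Cfsg.BNPair.rank
      rw [h2]
      simp
    · exact h.isP.isNilpotent
    · apply le_antisymm
      · exact sup_le h.le inf_le_left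
      · intro b hb
        obtain ⟨u, hu, x, hx, rfl⟩ := h.cover' hb
        exact mul_mem (mem_sup_left hu) (mem_sup_right hx)

end Cfsg.Agent.H690.LieMix
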